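import Mathlib

/-!
# Chevalley - Warning for additive subgroups (helper966, S5719 EV2)
-/

set_option autoImplicit false

namespace Cfsg.Agent.H966.IFE

open QuadraticMap Module

section

open MvPolynomial

/-- the abstract form: `r` quadratic forms over `F₂` in more than `2 r` variables -/
theorem exists_common_zero {W : Type*} [AddCommGroup W] [Module (ZMod 2) W] [Finite W] {r : ℕ}
    (q : Fin r → QuadraticForm (ZMod 2) W) (hr : 2 * r < finrank (ZMod 2) W) :
    ∃ y : W, y ≠ 0 ∧ ∀ i, q i y = 0 := by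
  classical
  have : Module.Finite (ZMod 2) W := Module.Finite.of_finite
  let n := finrank (ZMod 2) W
  let b : Basis (Fin n) (ZMod 2) W := finBasis (ZMod 2) W
  have hB : ∀ i, ∃ B : LinearMap.BilinMap (ZMod 2) W (ZMod 2), B.toQuadraticMap = q i := fun i =>
    LinearMap.BilinMap.toQuadraticMap_surjective (q i)
  choose B hB using hB
  let f : Fin r → MvPolynomial (Fin n) (ZMod 2) := fun i => ∑ j, ∑ k, C (B i (b j) (b k)) * (X j * X k)
  have hdeg : ∀ i, (f i).totalDegree ≤ 2 := by
    intro i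
    refine totalDegree_finsetSum_le fun j _ => totalDegree_finsetSum_le fun k _ => ?_
    refine (totalDegree_mul _ _).trans ?_
    rw [totalDegree_C, zero_add]
    refine (totalDegree_mul _ _).trans ?_
    rw [totalDegree_X, totalDegree_X]
  have hev : ∀ i (x : Fin n → ZMod 2), eval x (f i) = q i (∑ j, x j • b j) := by
    intro i x
    rw [← hB i]
    simp only [f, map_sum, map_mul, eval_C, eval_X, LinearMap.BilinMap.toQuadraticMap_apply, LinearMap.sum_apply,
      LinearMap.smul_apply, map_smul, smul_eq_mul]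
    rw [Finset.sum_comm]
    refine Finset.sum_congr rfl fun k _ => ?_
    rw [Finset.mul_sum]
    refine Finset.sum_congr rfl fun j _ => ?_
    ring
  have hcw := char_dvd_card_solutions_of_sum_lt (K := ZMod 2) 2 (s := Finset.univ) (f := f) (by
    calc ∑ i : Fin r, (f i).totalDegree ≤ ∑ _i : Fin r, 2 := Finset.sum_le_sum fun i _ => hdeg i
      _ = 2 * r := by simp [mul_comm]
      _ < Fintype.card (Fin n) := by rw [Fintype.card_fin]; exact hr)
  have h0 : ∀ i ∈ (Finset.univ : Finset (Fin r)), eval (0 : Fin n → ZMod 2) (f i) = 0 := by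
    intro i _
    rw [hev]
    simp
  have hcw' : 2 ∣ Nat.card {x : Fin n → ZMod 2 // ∀ i ∈ (Finset.univ : Finset (Fin r)), eval x (f i) = 0} := by
    have e := @Nat.card_eq_fintype_card {x : Fin n → ZMod 2 // ∀ i ∈ (Finset.univ : Finset (Fin r)), eval x (f i) = 0}
      (Subtype.fintype _)
    rw [e]
    convert hcw
  have h1 : 1 < Nat.card {x : Fin n → ZMod 2 // ∀ i ∈ (Finset.univ : Finset (Fin r)), eval x (f i) = 0} := by
    have : Nonempty {x : Fin n → ZMod 2 // ∀ i ∈ (Finset.univ : Finset (Fin r)), eval x (f i) = 0} := ⟨⟨0, h0⟩⟩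
    have h3 := Nat.le_of_dvd Nat.card_pos hcw'
    omega
  have : Nontrivial {x : Fin n → ZMod 2 // ∀ i ∈ (Finset.univ : Finset (Fin r)), eval x (f i) = 0} :=
    Finite.one_lt_card_iff_nontrivial.1 h1
  obtain ⟨⟨x, hx⟩, hne⟩ := exists_ne (⟨0, h0⟩ : {x : Fin n → ZMod 2 // ∀ i ∈ (Finset.univ : Finset (Fin r)), eval x (f i) = 0})
  have hx0 : x ≠ 0 := fun h => hne (Subtype.ext h)
  refine ⟨∑ j, x j • b j, ?_, fun i => ?_⟩
  · intro h
    apply hx0
    funext j
    exact (Fintype.linearIndependent_iff.1 b.linearIndependent) x h j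
  · rw [← hev]
    exact hx i (Finset.mem_univ _)

end

/-- **EV2.** Chevalley - Warning for additive subgroups -/
theorem exists_singular {F V : Type*} [Field F] [Fintype F] [CharP F 2] [AddCommGroup V] [Module F V] [Finite V]
    (Q : QuadraticForm F V) (Y : AddSubgroup V) (hY : Fintype.card F ^ 2 < Nat.card Y) :
    ∃ y ∈ Y, y ≠ 0 ∧ Q y = 0 := by
  classical
  let : Algebra (ZMod 2) F := ZMod.algebra F 2
  have h2 : ∀ v : V, (2 : ℕ) • v = 0 := fun v => by
    rw [← Nat.cast_smul_eq_nsmul F, CharP.cast_eq_zero, zero_smul]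
  let : Module (ZMod 2) V := AddCommGroup.zmodModule h2
  have : IsScalarTower (ZMod 2) F V := ⟨fun a x v => by
    exact ZMod.map_smul (n := 2) ({ toFun := fun x : F => x • v, map_zero' := zero_smul F v, map_add' := fun x y => add_smul x y v } : F →+ V) a x⟩
  let Y' : Submodule (ZMod 2) V := AddSubgroup.toZModSubmodule 2 Y
  have hY' : ∀ v, v ∈ Y' ↔ v ∈ Y := fun v => AddSubgroup.mem_toZModSubmodule (n := 2) (S := Y)
  have : Module.Finite (ZMod 2) F := Module.Finite.of_finite
  have : Module.Finite (ZMod 2) Y' := Module.Finite.of_finite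
  let r := finrank (ZMod 2) F
  let c : Basis (Fin r) (ZMod 2) F := finBasis (ZMod 2) F
  have hcF : Fintype.card F = 2 ^ r := by
    have h := Module.card_eq_pow_finrank (K := ZMod 2) (V := F)
    rw [ZMod.card] at h
    rw [← h]
  have hcY : Nat.card Y = 2 ^ finrank (ZMod 2) Y' := by
    have h := Module.natCard_eq_pow_finrank (K := ZMod 2) (V := Y')
    rw [Nat.card_zmod] at h
    exact h
  have hr : 2 * r < finrank (ZMod 2) Y' := by
    rw [hcF, hcY, ← pow_mul, mul_comm r 2] at hY
    exact (Nat.pow_lt_pow_iff_right (by norm_num)).1 hY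
  let q : Fin r → QuadraticForm (ZMod 2) Y' := fun i =>
    (c.coord i).compQuadraticMap ((Q.restrictScalars (S := ZMod 2)).comp Y'.subtype)
  obtain ⟨y, hy0, hy⟩ := exists_common_zero q hr
  refine ⟨y, (hY' y).1 y.2, fun h => hy0 (Subtype.ext h), ?_⟩
  have h3 : ∀ i, c.coord i (Q y) = 0 := hy
  exact c.forall_coord_eq_zero_iff.1 h3

end Cfsg.Agent.H966.IFE
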